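import Cfsg.Agent.DerangedIndex.AffineCases

/-!
# A normal abelian subgroup with fixed points

The argument for the centre works for every abelian subgroup normalised by `Y`.
-/

set_option autoImplicit false
set_option linter.unusedSectionVars false
set_option linter.style.haveILetI false

open MulAction

namespace CfsgLib.DerangedIndexNA

open CfsgLib.DerangedIndex

variable {G U : Type*} [Group G] [CommGroup U] [MulDistribMulAction G U] [Finite G]
  [Finite U] {D : Subgroup G} [D.Normal] {p : ℕ} {Y R : Subgroup G}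

/-- Some element of a normal abelian subgroup has fixed points. -/
theorem case_abelian (h : Aff p G U D) (hY : Onto Y D)
    (hRD : R ≤ D) (hRY : R ≤ Y)
    (hB : ∀ B : Subgroup G, B ≤ R → B ≠ ⊥ → Y ≤ Subgroup.normalizer (B : Set G) → fixS U B = ⊥)
    {Z : Subgroup G} (hZR : Z ≤ R) (hYZ : Y ≤ Subgroup.normalizer (Z : Set G))
    (hZc : ∀ a ∈ Z, ∀ b ∈ Z, a * b = b * a)
    {x : G} (hx : x ∈ Z) (hx1 : x ≠ 1) (hfx : fx U x ≠ ⊥) :
    (D.index + 1) ^ 2 ≤ Nat.card U := by
  classical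
  haveI := Fintype.ofFinite (Subgroup G)
  have hfixZ : fixS U Z = ⊥ := hB Z hZR (fun e => hx1 (Subgroup.mem_bot.1 (e ▸ hx))) hYZ
  obtain ⟨B, hBmem, hmax⟩ := Finset.exists_max_image
    (Finset.univ.filter fun B : Subgroup G => B ≤ Z ∧ fixS U B ≠ ⊥) (fun B => Nat.card B)
    ⟨Subgroup.zpowers x, by simp [Subgroup.zpowers_le, hx, fixS_zpowers, hfx]⟩
  simp only [Finset.mem_filter, Finset.mem_univ, true_and] at hBmem hmax
  have hB1 : B ≠ ⊥ := by
    intro e
    have := hmax (Subgroup.zpowers x) ⟨Subgroup.zpowers_le.2 hx, by rwa [fixS_zpowers]⟩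
    rw [e, Subgroup.card_bot, Nat.card_zpowers] at this
    have h0 := orderOf_pos x
    exact hx1 (orderOf_eq_one_iff.1 (by omega))
  -- the conjugates of `B`
  let O : Set (Subgroup G) := {B' | ∃ g ∈ Y, B.map (MulAut.conj g).toMonoidHom = B'}
  haveI : Fintype O := Fintype.ofFinite _
  choose g hgY hgB using fun i : O => i.2
  have hsub : ∀ i : O, (i : Subgroup G) ≤ Z := by
    intro i
    rw [← hgB i]
    rintro _ ⟨a, ha, rfl⟩
    exact (Subgroup.mem_normalizer_iff.1 (hYZ (hgY i)) a).1 (hBmem.1 ha)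
  have hcardB : ∀ i : O, Nat.card (i : Subgroup G) = Nat.card B := fun i => by
    rw [← hgB i]
    exact Subgroup.card_map_of_injective (MulAut.conj (g i)).injective
  set W := fixS U B with hW
  have hcardW : ∀ i : O, Nat.card (fixS U (i : Subgroup G)) = Nat.card W := fun i =>
    card_fixS_conj (hgB i)
  set o := Nat.card O with ho
  have hBO : B ∈ O := ⟨1, one_mem _, by
    ext a
    simp⟩
  have ho2 : 2 ≤ o := by
    by_contra hlt
    haveI : Nonempty O := ⟨⟨B, hBO⟩⟩
    have h1 : o = 1 := by have : 0 < o := Nat.card_pos; omega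
    haveI : Subsingleton O := (Nat.card_eq_one_iff_unique.1 h1).1
    refine hBmem.2 (hB B (hBmem.1.trans hZR) hB1 fun y hy => ?_)
    rw [Subgroup.mem_normalizer_iff_map_conj_eq]
    exact congrArg Subtype.val (Subsingleton.elim (⟨_, y, hy, rfl⟩ : O) ⟨B, hBO⟩)
  have hprod : Nat.card W ^ o ≤ Nat.card U := by
    have h1 := prod_card_le (ι := O) (fun i => (i : Subgroup G))
      (fun i => fixS U (i : Subgroup G)) (fun i a ha w hw => mem_fixS.1 hw a ha) ?_ ?_
    · rwa [Finset.prod_congr rfl fun i _ => hcardW i, Finset.prod_const, Finset.card_univ,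
        ← Nat.card_eq_fintype_card] at h1
    · intro i j a ha w hw
      refine mem_fixS.2 fun b hb => ?_
      rw [← mul_smul, hZc b (hsub j hb) a (hsub i ha), mul_smul, mem_fixS.1 hw b hb]
    · intro i j hij w hw hA
      have hle : (i : Subgroup G) ⊔ (j : Subgroup G) ≤ stabilizer G w :=
        sup_le (fun a ha => hA a ha) (fun a ha => mem_fixS.1 hw a ha)
      by_contra hw1
      have h2 := hmax ((i : Subgroup G) ⊔ (j : Subgroup G)) ⟨sup_le (hsub i) (hsub j), fun e => hw1 ?_⟩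
      · have e1 : (j : Subgroup G) = (i : Subgroup G) ⊔ (j : Subgroup G) :=
          Subgroup.eq_of_le_of_card_ge le_sup_right (hcardB j ▸ h2)
        have e2 : (i : Subgroup G) = j :=
          Subgroup.eq_of_le_of_card_ge (e1 ▸ le_sup_left) (by rw [hcardB i, hcardB j])
        exact hij (Subtype.ext e2)
      · rw [← Subgroup.mem_bot, ← e]
        exact mem_fixS.2 fun a ha => hle ha
  -- the stabiliser
  set S := Y ⊓ Subgroup.normalizer (B : Set G) with hS
  have hcov : D.index ≤ o * D.relIndex S := by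
    refine index_le_card_mul hY g fun y hy => ⟨⟨_, y, hy, rfl⟩, (g ⟨_, y, hy, rfl⟩)⁻¹ * y,
      Subgroup.mem_inf.2 ⟨mul_mem (inv_mem (hgY _)) hy, ?_⟩, by rw [mul_inv_cancel_left, inv_mul_cancel]; exact one_mem D⟩
    have e := hgB (⟨_, y, hy, rfl⟩ : O)
    set a := g (⟨_, y, hy, rfl⟩ : O)
    rw [Subgroup.mem_normalizer_iff]
    intro b
    have e' : ∀ c, y * c * y⁻¹ ∈ B.map (MulAut.conj y).toMonoidHom ↔ c ∈ B := fun c =>
      Subgroup.mem_map_iff_mem (f := (MulAut.conj y).toMonoidHom) (MulAut.conj y).injective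
    have e'' : ∀ c, a * c * a⁻¹ ∈ B.map (MulAut.conj a).toMonoidHom ↔ c ∈ B := fun c =>
      Subgroup.mem_map_iff_mem (f := (MulAut.conj a).toMonoidHom) (MulAut.conj a).injective
    rw [← e' b, ← e'' (a⁻¹ * y * b * (a⁻¹ * y)⁻¹), e]
    simp [mul_assoc]
  have hWinv : ∀ a ∈ S, ∀ w ∈ W, a • w ∈ W := fun a ha w hw => smul_mem_fixS ha.2 hw
  obtain ⟨w, hw, hw1⟩ := (Subgroup.ne_bot_iff_exists_ne_one.1 hBmem.2 |> fun ⟨a, ha⟩ =>
    (⟨a, a.2, fun e => ha (Subtype.ext e)⟩ : ∃ a : U, a ∈ W ∧ a ≠ 1))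
  obtain ⟨z, hz, hzw⟩ : ∃ z ∈ Z, z • w ≠ w := by
    by_contra hh
    push Not at hh
    exact hw1 (Subgroup.mem_bot.1 (hfixZ ▸ mem_fixS.2 hh))
  have hzS : z ∈ S ⊓ D := by
    refine Subgroup.mem_inf.2 ⟨Subgroup.mem_inf.2 ⟨hRY (hZR hz), ?_⟩, hRD (hZR hz)⟩
    rw [Subgroup.mem_normalizer_iff]
    intro b
    constructor
    · intro hb
      rwa [← hZc b (hBmem.1 hb) z hz, mul_inv_cancel_right]
    · intro hb
      have h2 := hZc _ (hBmem.1 hb) z hz
      have : b = z * b * z⁻¹ := by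
        rw [← mul_left_cancel_iff (a := z)]
        calc z * b = z * b * z⁻¹ * z := by group
          _ = z * (z * b * z⁻¹) := h2
      exact this ▸ hb
  have h1 := relIndex_mul_relIndex_le (D := D) hWinv hw hw1
    (fun a _ ha => by_contra fun haD => hw1 (h.fpf a haD w ha))
  have h2 := two_le_relIndex hzS hzw
  have h3 : 2 * D.relIndex S + 1 ≤ Nat.card W := by
    have := Nat.mul_le_mul_left (D.relIndex S) h2
    omega
  obtain ⟨a, ha⟩ : ∃ a, Nat.card W = a + 1 := ⟨Nat.card W - 1, by omega⟩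
  have h4 : 2 * D.index ≤ o * a := by
    calc 2 * D.index ≤ 2 * (o * D.relIndex S) := Nat.mul_le_mul_left 2 hcov
      _ = o * (2 * D.relIndex S) := by ring
      _ ≤ o * a := Nat.mul_le_mul_left o (by omega)
  have h5 := add_two_sq_le a o ho2
  rw [← ha] at h5
  have h6 : (2 * D.index + 2) ^ 2 ≤ (o * a + 2) ^ 2 := Nat.pow_le_pow_left (by omega) 2
  have h7 : (2 * D.index + 2) ^ 2 = 4 * (D.index + 1) ^ 2 := by ring
  omega

end CfsgLib.DerangedIndexNA
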