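import Cfsg.Agent.DerangedIndexNA.Count
import Cfsg.Agent.DerangedIndexNA.Abelian

/-!
# The index bound for coprime linear groups, without a threshold

When some element of order `r` is centralised by `R` modulo `⟨z⟩`, count the points fixed by the
elements of the subgroup `R₀` of elements centralised by `R` modulo `⟨z⟩` whose `r`-th power is in
`⟨z⟩`.  This gives `(|G : D| + 1) ^ 2 ≤ |U|` for every `U`.
-/

set_option autoImplicit false
set_option linter.unusedSectionVars false
set_option linter.style.haveILetI false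

open MulAction

namespace CfsgLib.DerangedIndexNA

open CfsgLib.DerangedIndex

variable {G U : Type*} [Group G] [CommGroup U] [MulDistribMulAction G U] [Finite G]
  [Finite U] {D : Subgroup G} [D.Normal] {p : ℕ} {Y R : Subgroup G}

/-- The elements centralised by `R` modulo `⟨z⟩` with `r`-th power in `⟨z⟩`. -/
def modzGroup (r : ℕ) (R : Subgroup G) (z : G) (hzc : ∀ g ∈ R, g * z = z * g) : Subgroup G where
  carrier := {x | x ∈ R ∧ x ^ r ∈ Subgroup.zpowers z ∧
    ∀ g ∈ R, g * x * g⁻¹ * x⁻¹ ∈ Subgroup.zpowers z}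
  one_mem' := ⟨one_mem R, by rw [one_pow]; exact one_mem _,
    fun g _ => by rw [mul_one, mul_inv_cancel, inv_one, mul_one]; exact one_mem _⟩
  mul_mem' := fun {a b} ha hb => by
    have hN : ∀ g ∈ R, ∀ c ∈ Subgroup.zpowers z, g * c = c * g := by
      intro g hg c hc
      obtain ⟨i, rfl⟩ := Subgroup.mem_zpowers_iff.1 hc
      exact ((show Commute g z from hzc g hg).zpow_right i).eq
    refine ⟨mul_mem ha.1 hb.1, ?_, fun g hg => ?_⟩
    · have key : ∀ i : ℕ, ((a * b) ^ i) * (a ^ i * b ^ i)⁻¹ ∈ Subgroup.zpowers z := by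
        intro i
        induction i with
        | zero => simp
        | succ i ih =>
          have hc1 := ha.2.2 (b ^ i) (pow_mem hb.1 i)
          have hc2 := hN a ha.1 _ ih
          have e : (a * b) ^ (i + 1) * (a ^ (i + 1) * b ^ (i + 1))⁻¹ =
              (a * b) ^ i * (a ^ i * b ^ i)⁻¹ *
                (a ^ i * (b ^ i * a * (b ^ i)⁻¹ * a⁻¹) * (a ^ i)⁻¹) := by
            rw [pow_succ, pow_succ a i, pow_succ b i]
            group
          rw [e]
          refine mul_mem ih ?_
          rw [hN _ (pow_mem ha.1 i) _ hc1, mul_inv_cancel_right]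
          exact hc1
      have := mul_mem (key r) (mul_mem ha.2.1 hb.2.1)
      rwa [inv_mul_cancel_right] at this
    · have e : g * (a * b) * g⁻¹ * (a * b)⁻¹ =
          g * a * g⁻¹ * a⁻¹ * (a * (g * b * g⁻¹ * b⁻¹) * a⁻¹) := by group
      rw [e]
      refine mul_mem (ha.2.2 g hg) ?_
      rw [hN a ha.1 _ (hb.2.2 g hg), mul_inv_cancel_right]
      exact hb.2.2 g hg
  inv_mem' := fun {a} ha => by
    refine ⟨inv_mem ha.1, by rw [inv_pow]; exact inv_mem ha.2.1, fun g hg => ?_⟩
    have hN : ∀ c ∈ Subgroup.zpowers z, a * c = c * a := by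
      intro c hc
      obtain ⟨i, rfl⟩ := Subgroup.mem_zpowers_iff.1 hc
      exact ((show Commute a z from hzc a ha.1).zpow_right i).eq
    have h1 := inv_mem (ha.2.2 g hg)
    have e : g * a⁻¹ * g⁻¹ * a⁻¹⁻¹ = a⁻¹ * (g * a * g⁻¹ * a⁻¹)⁻¹ * a := by group
    rw [e, mul_assoc, ← hN _ h1, inv_mul_cancel_left]
    exact h1

variable [hp : Fact p.Prime] {r : ℕ} [hr : Fact r.Prime] {z : G}

/-- Some element of order `r` is centralised by `R` modulo `⟨z⟩`. -/
theorem case_classes (h : Aff p G U D) (hpr : p ≠ r) (hY : Onto Y D)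
    (hYdef : Y = Subgroup.normalizer (R : Set G)) (hRD : R ≤ D) (hRp : IsPGroup r R)
    (hB : ∀ B : Subgroup G, B ≤ R → B ≠ ⊥ → Y ≤ Subgroup.normalizer (B : Set G) → fixS U B = ⊥)
    (hzr : z ^ r = 1) (hz1 : z ≠ 1) (hz : ∀ u : U, z • u = u → u = 1)
    (hZ : omegaCenter r R = Subgroup.zpowers z) {e : G} (he : Modz r R z e) :
    (D.index + 1) ^ 2 ≤ Nat.card U := by
  classical
  haveI := Fintype.ofFinite G
  have hzZ : z ∈ omegaCenter r R := hZ ▸ Subgroup.mem_zpowers z
  have hzR : z ∈ R := hzZ.1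
  have hzc : ∀ g ∈ R, g * z = z * g := hzZ.2.2
  have hRY : R ≤ Y := hYdef ▸ Subgroup.le_normalizer
  have hYR : ∀ g ∈ Y, ∀ a ∈ R, g * a * g⁻¹ ∈ R := fun g hg a ha =>
    (Subgroup.mem_normalizer_iff.1 (hYdef ▸ hg) a).1 ha
  have hzY : ∀ g ∈ Y, ∀ a ∈ Subgroup.zpowers z, g * a * g⁻¹ ∈ Subgroup.zpowers z := by
    intro g hg a ha
    rw [← hZ] at ha ⊢
    refine ⟨hYR g hg a ha.1, by rw [conj_pow, ha.2.1, mul_one, mul_inv_cancel], fun b hb => ?_⟩
    have := ha.2.2 _ (hYR g⁻¹ (inv_mem hg) b hb)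
    calc b * (g * a * g⁻¹) = g * (g⁻¹ * b * g⁻¹⁻¹ * a) * g⁻¹ := by group
      _ = g * (a * (g⁻¹ * b * g⁻¹⁻¹)) * g⁻¹ := by rw [this]
      _ = g * a * g⁻¹ * b := by group
  set R0 := modzGroup r R z hzc with hR0
  have hR0R : R0 ≤ R := fun a ha => ha.1
  have hzR0 : z ∈ R0 := ⟨hzR, by rw [hzr]; exact one_mem _, fun g hg => by
    rw [hzc g hg, mul_inv_cancel_right, mul_inv_cancel]; exact one_mem _⟩
  have heR0 : e ∈ R0 := ⟨he.1, by rw [he.2.1]; exact one_mem _, he.2.2.2⟩
  have hnorm : Y ≤ Subgroup.normalizer (R0 : Set G) := by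
    refine le_normalizer_of_conj_mem fun g hg a ha => ⟨hYR g hg a ha.1, ?_, fun b hb => ?_⟩
    · rw [conj_pow]; exact hzY g hg _ ha.2.1
    · have := hzY g hg _ (ha.2.2 _ (hYR g⁻¹ (inv_mem hg) b hb))
      simpa [mul_assoc, mul_inv_rev] using this
  set E : Finset G := Finset.univ.filter fun x => Modz r R z x with hE
  have hEmem : ∀ {g}, g ∈ E ↔ Modz r R z g := fun {g} => by simp [hE]
  have hEfix : ∀ g ∈ R0, g ≠ 1 → ∀ u : U, u ≠ 1 → g • u = u → g ∈ E := by
    intro g hg hg1 u hu hgu
    refine hEmem.2 ⟨hg.1, by_contra fun hne => hu ?_, fun hh => hu ?_, hg.2.2⟩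
    · exact eq_one_of_fixed_zpowers hzr hz hg.2.1 hne
        (pow_mem (show g ∈ stabilizer G u from hgu) r)
    · exact eq_one_of_fixed_zpowers hzr hz hh hg1 hgu
  obtain ⟨emax, hemax, hmax⟩ := Finset.exists_max_image E (fun g => Nat.card (fx U g))
    ⟨e, hEmem.2 he⟩
  set q := Nat.card (fx U emax)
  have hqr : q ^ r ≤ Nat.card U := by
    have hx := hEmem.1 hemax
    obtain ⟨g, hg, hge⟩ := exists_conj_eq hzr hzc hZ hx
    exact card_fx_pow_le hzr hz1 hz (hzc emax hx.1) hge (hzc g hg)
  obtain ⟨g₀, hg₀, hge⟩ := exists_conj_eq hzr hzc hZ he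
  obtain ⟨w, hw, hw1⟩ : ∃ w ∈ fx U e, w ≠ 1 := by
    by_contra hh
    push Not at hh
    have hU : ∀ u : U, u = 1 := by
      intro u
      have hle : ⨆ i : Fin r, fx U (e * z ^ (i : ℕ)) ≤ ⊥ := by
        refine iSup_le fun i => le_of_eq ?_
        rw [← Subgroup.card_eq_one, card_fx_conj (conj_pow_eq hge (hzc g₀ hg₀) (i : ℕ)),
          Subgroup.card_eq_one]
        exact (Subgroup.eq_bot_iff_forall _).2 hh
      exact hle (mem_iSup_fx hzr he.2.1 hz1 hz (hzc e he.1) h.exp hpr u)
    obtain ⟨-, -, -, u, hu, -⟩ := h.fixed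
    exact hu (hU u)
  have hq2 : 2 ≤ q := by
    refine le_trans (Finite.one_lt_card_iff_nontrivial.2 ?_) (hmax e (hEmem.2 he))
    exact ⟨⟨⟨w, hw⟩, 1, fun e1 => hw1 (congrArg Subtype.val e1)⟩⟩
  have he1 : e ≠ 1 := fun e1 => he.2.2.1 (e1 ▸ one_mem _)
  set n0 := Nat.card R0
  have hn0 : 0 < n0 := Nat.card_pos
  have hcount : ∀ x : U, x ≠ 1 → D.index * n0 * (Nat.card (stabilizer R0 x) - 1) ≤
      Nat.card (stabilizer R0 x) * (E.card * (q - 1)) := fun x hx =>
    index_mul_le h hY (hR0R.trans hRY) (hR0R.trans hRD) hnorm E hEfix hmax hx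
  have hsub : IsPGroup r R0 := hRp.to_le hR0R
  have hEcard : E.card ≤ n0 := by
    rw [show n0 = Fintype.card R0 from Nat.card_eq_fintype_card, ← Finset.card_univ]
    refine le_trans (Finset.card_le_card fun g hg => ?_)
      (Finset.card_map (Function.Embedding.subtype _)).le
    exact Finset.mem_map.2 ⟨⟨g, (hEmem.1 hg).1, by rw [(hEmem.1 hg).2.1]; exact one_mem _,
      (hEmem.1 hg).2.2.2⟩, Finset.mem_univ _, rfl⟩
  -- a non-trivial stabiliser has order at least `r`
  have hstab : ∀ x : U, 1 < Nat.card (stabilizer R0 x) →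
      r ∣ Nat.card (stabilizer R0 x) := by
    intro x hx
    obtain ⟨i, hi⟩ := (hsub.to_subgroup (stabilizer R0 x)).exists_card_eq
    rw [hi] at hx ⊢
    exact dvd_pow_self r (by rintro rfl; simp at hx)
  have hwm : 1 < Nat.card (stabilizer R0 w) := Finite.one_lt_card_iff_nontrivial.2
    ⟨⟨⟨⟨e, heR0⟩, hw⟩, 1, fun e1 => he1 (congrArg (fun a : stabilizer R0 w => ((a : R0) : G)) e1)⟩⟩
  rcases eq_or_ne r 2 with rfl | hr2
  swap
  · -- `r` odd
    have hr3 : 3 ≤ r := by have := hr.out.two_le; omega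
    set m := Nat.card (stabilizer R0 w)
    have hmr : r ≤ m := Nat.le_of_dvd (by omega) (hstab w hwm)
    have h1 := hcount w hw1
    have h2 : D.index * n0 * (r - 1) * m ≤ r * (n0 * (q - 1)) * m := by
      calc D.index * n0 * (r - 1) * m ≤ D.index * n0 * (r * (m - 1)) := by
            rw [mul_assoc (D.index * n0)]
            refine Nat.mul_le_mul_left _ ?_
            zify [show 1 ≤ r by omega, show 1 ≤ m by omega]
            nlinarith
        _ = r * (D.index * n0 * (m - 1)) := by ring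
        _ ≤ r * (m * (E.card * (q - 1))) := Nat.mul_le_mul_left _ h1
        _ ≤ r * (m * (n0 * (q - 1))) :=
            Nat.mul_le_mul_left _ (Nat.mul_le_mul_left _ (Nat.mul_le_mul_right _ hEcard))
        _ = r * (n0 * (q - 1)) * m := by ring
    have h3 : D.index * (r - 1) ≤ r * (q - 1) := by
      refine Nat.le_of_mul_le_mul_left ?_ hn0
      have := Nat.le_of_mul_le_mul_right h2 (by omega)
      calc n0 * (D.index * (r - 1)) = D.index * n0 * (r - 1) := by ring
        _ ≤ r * (n0 * (q - 1)) := this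
        _ = n0 * (r * (q - 1)) := by ring
    have h4 : 2 * D.index ≤ 3 * (q - 1) := by
      obtain ⟨s, rfl⟩ : ∃ s, r = s + 3 := ⟨r - 3, by omega⟩
      rw [show s + 3 - 1 = s + 2 by omega] at h3
      by_contra hh
      have h5 : 3 * (q - 1) + 1 ≤ 2 * D.index := by omega
      have h6 := Nat.mul_le_mul_left (s + 2) h5
      nlinarith [Nat.zero_le (s * (q - 1)), Nat.zero_le s]
    have hq3 : q ^ 3 ≤ Nat.card U := (Nat.pow_le_pow_right (by omega) hr3).trans hqr
    rcases Nat.lt_or_ge q 3 with hq | hq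
    · have rfl' : q = 2 := by omega
      rw [rfl'] at h4 hq3
      calc (D.index + 1) ^ 2 ≤ 2 ^ 2 := Nat.pow_le_pow_left (by omega) 2
        _ ≤ Nat.card U := le_trans (by norm_num) hq3
    · have h5 : (2 * (D.index + 1)) ^ 2 ≤ (3 * q) ^ 2 := Nat.pow_le_pow_left (by omega) 2
      have h6 : 9 * q ^ 2 ≤ 4 * q ^ 3 := by nlinarith
      nlinarith
  -- `r = 2`
  haveI : Fact (Nat.Prime 2) := ⟨Nat.prime_two⟩
  by_cases hnc : ∀ a ∈ R0, ∀ b ∈ R0, a * b = b * a
  · exact case_abelian h hY hRD hRY hB hR0R hnorm hnc heR0 he1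
      (fun e1 => hw1 (Subgroup.mem_bot.1 (e1 ▸ hw)))
  suffices hkq : D.index ≤ q - 1 from
    (Nat.pow_le_pow_left (show D.index + 1 ≤ q by omega) 2).trans hqr
  have hzz : z * z = 1 := by rw [← pow_two, hzr]
  have hzpow : ∀ a ∈ Subgroup.zpowers z, a = 1 ∨ a = z := by
    intro a ha
    obtain ⟨i, rfl⟩ := Subgroup.mem_zpowers_iff.1 ha
    rcases Int.even_or_odd i with ⟨t, rfl⟩ | ⟨t, rfl⟩
    · left; rw [← two_mul, zpow_mul, zpow_two, hzz, one_zpow]
    · right; rw [zpow_add, zpow_mul, zpow_two, hzz, one_zpow, one_mul, zpow_one]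
  by_cases hA : ∃ x : U, x ≠ 1 ∧ 2 < Nat.card (stabilizer R0 x)
  · obtain ⟨x, hx, hm2⟩ := hA
    set m := Nat.card (stabilizer R0 x) with hmdef
    have hm4 : 4 ≤ m := by
      obtain ⟨i, hi⟩ := (hsub.to_subgroup (stabilizer R0 x)).exists_card_eq
      rw [← hmdef] at hi
      rcases Nat.lt_or_ge i 2 with hi2 | hi2
      · interval_cases i <;> omega
      · exact hi ▸ le_trans (by norm_num) (Nat.pow_le_pow_right (by norm_num) hi2)
    by_cases hfew : 4 * E.card ≤ 3 * n0
    · have h1 := hcount x hx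
      refine Nat.le_of_mul_le_mul_left ?_ (show 0 < 3 * n0 * m by positivity)
      calc 3 * n0 * m * D.index ≤ 4 * (D.index * n0 * (m - 1)) := by
            obtain ⟨m', hm'⟩ : ∃ m', m = m' + 4 := ⟨m - 4, by omega⟩
            rw [hm', show m' + 4 - 1 = m' + 3 by omega]
            nlinarith [Nat.zero_le (D.index * n0 * m')]
        _ ≤ 4 * (m * (E.card * (q - 1))) := Nat.mul_le_mul_left _ h1
        _ = m * (4 * E.card) * (q - 1) := by ring
        _ ≤ m * (3 * n0) * (q - 1) := Nat.mul_le_mul_right _ (Nat.mul_le_mul_left _ hfew)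
        _ = 3 * n0 * m * (q - 1) := by ring
    · -- then `R₀` is commutative
      have hcomm := comm_of_involutions (G := R0)
        (Finset.univ.filter fun a : R0 => (a : G) ∈ E)
        (fun a ha => Subtype.ext (by
          rw [Subgroup.coe_mul, ← pow_two]
          exact (hEmem.1 (Finset.mem_filter.1 ha).2).2.1)) ?_
      · exact absurd (fun a ha b hb => congrArg Subtype.val (hcomm ⟨a, ha⟩ ⟨b, hb⟩)) hnc
      · have e1 : E.card ≤ (Finset.univ.filter fun a : R0 => (a : G) ∈ E).card := by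
          refine le_trans (Finset.card_le_card fun g hg => ?_) (Finset.card_image_le (f := fun a : R0 => (a : G)))
          have hg' := hEmem.1 hg
          exact Finset.mem_image.2 ⟨⟨g, hg'.1, by rw [hg'.2.1]; exact one_mem _, hg'.2.2.2⟩,
            Finset.mem_filter.2 ⟨Finset.mem_univ _, hg⟩, rfl⟩
        omega
  push Not at hA
  -- all stabilisers have order at most two
  have h2E : 2 * E.card ≤ n0 := by
    have hez : e * z = z * e := hzc e he.1
    have hcl : ∀ f ∈ E, f * e = e * f → f = e ∨ f = e * z := by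
      intro f hf hfe
      have hf' := hEmem.1 hf
      by_contra hne
      push Not at hne
      have hf1 : f ≠ 1 := fun e1 => hf'.2.2.1 (e1 ▸ one_mem _)
      have hfR0 : f ∈ R0 := ⟨hf'.1, by rw [hf'.2.1]; exact one_mem _, hf'.2.2.2⟩
      have two : ∀ a ∈ R0, a ≠ 1 → a ≠ e → a • w ≠ w := by
        intro a ha ha1 hae haw
        have hlt : 2 < Nat.card (stabilizer R0 w) := by
          rw [Nat.card_eq_fintype_card, Fintype.two_lt_card_iff]
          exact ⟨⟨⟨a, ha⟩, haw⟩, ⟨⟨e, heR0⟩, hw⟩, 1,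
            fun e1 => hae (congrArg (fun a : stabilizer R0 w => ((a : R0) : G)) e1),
            fun e1 => ha1 (congrArg (fun a : stabilizer R0 w => ((a : R0) : G)) e1),
            fun e1 => he1 (congrArg (fun a : stabilizer R0 w => ((a : R0) : G)) e1)⟩
        exact absurd (hA w hw1) (not_le.2 hlt)
      have hfinv : f • w = w⁻¹ := by
        have hmem : w * f • w ∈ fx U e := mul_mem hw (smul_mem_fx_self hfe hw)
        have hfix : f • (w * f • w) = w * f • w := by
          rw [smul_mul', ← mul_smul, ← pow_two, hf'.2.1, one_smul, mul_comm]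
        by_contra hne'
        have hne1 : w * f • w ≠ 1 := fun e1 => hne' (eq_inv_of_mul_eq_one_right e1)
        have h9 := hA _ hne1
        have hlt : 2 < Nat.card (stabilizer R0 (w * f • w)) := by
          rw [Nat.card_eq_fintype_card, Fintype.two_lt_card_iff]
          exact ⟨⟨⟨f, hfR0⟩, hfix⟩, ⟨⟨e, heR0⟩, hmem⟩, 1,
            fun e1 => hne.1 (congrArg (fun a : stabilizer R0 (w * f • w) => ((a : R0) : G)) e1),
            fun e1 => hf1 (congrArg (fun a : stabilizer R0 (w * f • w) => ((a : R0) : G)) e1),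
            fun e1 => he1 (congrArg (fun a : stabilizer R0 (w * f • w) => ((a : R0) : G)) e1)⟩
        omega
      have hzinv : z • w = w⁻¹ := eq_inv_of_mul_eq_one_right (hz _ (by
        rw [smul_mul', ← mul_smul, hzz, one_smul, mul_comm]))
      refine two (f * z) (mul_mem hfR0 hzR0) ?_ ?_ ?_
      · intro e1
        exact hf'.2.2.1 (eq_inv_of_mul_eq_one_left e1 ▸ inv_mem (Subgroup.mem_zpowers z))
      · intro e1
        exact hne.2 (by rw [← e1, mul_assoc, hzz, mul_one])
      · rw [mul_smul, hzinv, smul_inv', hfinv, inv_inv]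
    set C : Subgroup G := R0 ⊓ Subgroup.centralizer {e} with hC
    have hCe : ∀ {x}, x ∈ C ↔ x ∈ R0 ∧ x * e = e * x := fun {x} => by
      rw [hC, Subgroup.mem_inf, Subgroup.mem_centralizer_singleton_iff]
    set CF : Finset G := Finset.univ.filter fun x => x ∈ C with hCF
    have hCFm : ∀ {x}, x ∈ CF ↔ x ∈ R0 ∧ x * e = e * x := fun {x} => by
      rw [hCF, Finset.mem_filter]
      simp only [Finset.mem_univ, true_and, hCe]
    have hCFc : CF.card = Nat.card C := by
      rw [Nat.card_eq_fintype_card, Fintype.card_subtype]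
    have hR0c : ∀ {g}, g ∈ E → g ∈ R0 := fun {g} hg =>
      ⟨(hEmem.1 hg).1, by rw [(hEmem.1 hg).2.1]; exact one_mem _, (hEmem.1 hg).2.2.2⟩
    have hE1 : (E.filter fun f => f * e = e * f).card ≤ 2 := by
      refine le_trans (Finset.card_le_card (t := {e, e * z}) fun f hf => ?_) Finset.card_le_two
      obtain ⟨hf1, hf2⟩ := Finset.mem_filter.1 hf
      rcases hcl f hf1 hf2 with rfl | rfl <;> simp
    have hsplit := Finset.card_filter_add_card_filter_not (s := E) fun f => f * e = e * f
    rcases (E.filter fun f => ¬ f * e = e * f).eq_empty_or_nonempty with h0 | ⟨f, hf⟩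
    · rw [h0, Finset.card_empty] at hsplit
      have h4 : 4 ≤ n0 := by
        have hsc : ({1, z, e, e * z} : Finset G).card = 4 := by
          have n1 : e ≠ z := fun e1 => he.2.2.1 (e1 ▸ Subgroup.mem_zpowers z)
          have n2 : e * z ≠ 1 := fun e1 => he.2.2.1
            (eq_inv_of_mul_eq_one_left e1 ▸ inv_mem (Subgroup.mem_zpowers z))
          have n3 : e * z ≠ z := fun e1 => he1 (by simpa using e1)
          have n4 : e * z ≠ e := fun e1 => hz1 (by simpa using e1)
          rw [Finset.card_insert_of_notMem, Finset.card_insert_of_notMem,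
            Finset.card_insert_of_notMem, Finset.card_singleton]
          · simp [n4.symm]
          · simp [n1.symm, n3.symm]
          · simp [hz1.symm, he1.symm, n2.symm]
        rw [← hsc, show n0 = Fintype.card R0 from Nat.card_eq_fintype_card, ← Finset.card_univ]
        refine le_trans (Finset.card_le_card fun g hg => ?_)
          (Finset.card_map (Function.Embedding.subtype _)).le
        refine Finset.mem_map.2 ⟨⟨g, ?_⟩, Finset.mem_univ _, rfl⟩
        simp only [Finset.mem_insert, Finset.mem_singleton] at hg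
        rcases hg with rfl | rfl | rfl | rfl
        exacts [one_mem _, hzR0, heR0, mul_mem heR0 hzR0]
      omega
    obtain ⟨hfE, hfe⟩ := Finset.mem_filter.1 hf
    have hflip : ∀ x ∈ E, ¬ x * e = e * x → x * e * x⁻¹ = e * z := by
      intro x hx hxe
      rcases hzpow _ (he.2.2.2 x (hEmem.1 hx).1) with h0 | h0
      · exact absurd (mul_inv_eq_iff_eq_mul.1 (mul_inv_eq_one.1 h0)) hxe
      · rw [hez, ← h0, inv_mul_cancel_right]
    have hff : f * f = 1 := by rw [← pow_two]; exact (hEmem.1 hfE).2.1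
    have himg : ∀ x ∈ E.filter (fun f => ¬ f * e = e * f), f * x ∈ CF \ {e, e * z} := by
      intro x hx
      obtain ⟨hxE, hxe⟩ := Finset.mem_filter.1 hx
      rw [Finset.mem_sdiff]
      refine ⟨hCFm.2 ⟨mul_mem (hR0c hfE) (hR0c hxE), ?_⟩, ?_⟩
      · have h1 := hflip x hxE hxe
        have h2 := hflip f hfE hfe
        calc f * x * e = f * (x * e * x⁻¹) * x := by group
          _ = f * (f * e * f⁻¹) * x := by rw [h1, h2]
          _ = f * f * e * (f * f)⁻¹ * (f * x) := by group
          _ = e * (f * x) := by rw [hff]; group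
      · have hfe2 : f * e * (f * e) = z := by
          have h2 := hflip f hfE hfe
          rw [inv_eq_of_mul_eq_one_right hff] at h2
          calc f * e * (f * e) = f * e * f * e := by group
            _ = e * z * e := by rw [h2]
            _ = e ^ 2 * z := by rw [mul_assoc, ← hez, ← mul_assoc, pow_two]
            _ = z := by rw [he.2.1, one_mul]
        intro hh
        have hxx : x * x = 1 := by rw [← pow_two]; exact (hEmem.1 hxE).2.1
        simp only [Finset.mem_insert, Finset.mem_singleton] at hh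
        rcases hh with hh | hh
        · have hx2 : x = f * e := by rw [← hh, ← mul_assoc, hff, one_mul]
          rw [hx2, hfe2] at hxx
          exact hz1 hxx
        · have hx2 : x = f * (e * z) := by rw [← hh, ← mul_assoc, hff, one_mul]
          have hzfe : z * (f * e) = f * e * z :=
            (hzc _ (mul_mem (hEmem.1 hfE).1 he.1)).symm
          rw [hx2, ← mul_assoc f e z, mul_assoc (f * e) z, ← mul_assoc z, hzfe, mul_assoc (f * e) z,
            hzz, mul_one, hfe2] at hxx
          exact hz1 hxx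
    have hE2 : (E.filter fun f => ¬ f * e = e * f).card + 2 ≤ CF.card := by
      have hsub2 : ({e, e * z} : Finset G) ⊆ CF := by
        intro a ha
        simp only [Finset.mem_insert, Finset.mem_singleton] at ha
        rcases ha with rfl | rfl
        · exact hCFm.2 ⟨heR0, rfl⟩
        · exact hCFm.2 ⟨mul_mem heR0 hzR0, by rw [mul_assoc, ← hez]⟩
      have h2 : ({e, e * z} : Finset G).card = 2 := Finset.card_pair fun e1 => hz1 (by simpa using e1)
      have h3 := Finset.card_sdiff_add_card_eq_card hsub2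
      have h4 := Finset.card_le_card_of_injOn (fun x => f * x) himg
        (fun a _ b _ e1 => mul_left_cancel e1)
      omega
    have h2C : 2 * Nat.card C ≤ n0 := by
      have hle : C ≤ R0 := inf_le_left
      have hidx : 2 ≤ (C.subgroupOf R0).index := (Nat.two_le_iff _).2
        ⟨Subgroup.index_ne_zero_of_finite, fun h1 => hfe (hCe.1
          (Subgroup.relIndex_eq_one.1 h1 (hR0c hfE))).2⟩
      have h3 := Subgroup.card_mul_index (C.subgroupOf R0)
      rw [Nat.card_congr (Subgroup.subgroupOfEquivOfLe hle).toEquiv] at h3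
      have h4 := Nat.mul_le_mul_left (Nat.card C) hidx
      omega
    omega
  have hm : Nat.card (stabilizer R0 w) = 2 := by have := hA w hw1; omega
  have h1 := hcount w hw1
  rw [hm] at h1
  refine Nat.le_of_mul_le_mul_left ?_ hn0
  calc n0 * D.index = D.index * n0 * (2 - 1) := by ring
    _ ≤ 2 * (E.card * (q - 1)) := h1
    _ = 2 * E.card * (q - 1) := by ring
    _ ≤ n0 * (q - 1) := Nat.mul_le_mul_right _ h2E

/-- The bound, for every `U`. -/
theorem sq_le {v' : ℕ} (h : Aff p G U D) (hv : Nat.card U = p ^ v') :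
    (D.index + 1) ^ 2 ≤ Nat.card U := by
  classical
  by_cases hdone : (D.index + 1) ^ 2 ≤ Nat.card U
  · exact hdone
  obtain ⟨t, htD, ht1, u, hu, htu⟩ := h.fixed
  obtain ⟨r, hr, hrd⟩ := Nat.exists_prime_and_dvd (fun e => ht1 (orderOf_eq_one_iff.1 e))
  haveI : Fact r.Prime := ⟨hr⟩
  set y := t ^ (orderOf t / r) with hydef
  have hyo : orderOf y = r := orderOf_pow_orderOf_div (orderOf_pos t).ne' hrd
  have hyD : y ∈ D := pow_mem htD _
  have hy1 : y ≠ 1 := fun e => hr.ne_one (by rw [← hyo, e, orderOf_one])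
  have hyr : y ^ r = 1 := by rw [← hyo]; exact pow_orderOf_eq_one y
  have hyu : y • u = u := pow_mem (show t ∈ stabilizer G u from htu) _
  have hrD : r ∣ Nat.card D := hyo ▸ Subgroup.orderOf_dvd_natCard _ hyD
  have hpr : p ≠ r := fun e => h.cop (e ▸ hrD)
  -- a Sylow subgroup of `D`
  have hyp : IsPGroup r (Subgroup.zpowers (⟨y, hyD⟩ : D)) := by
    refine IsPGroup.of_card (n := 1) ?_
    rw [Nat.card_zpowers, pow_one, ← Subgroup.orderOf_coe]
    exact hyo
  obtain ⟨P, hP⟩ := hyp.exists_le_sylow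
  set R : Subgroup G := (P : Subgroup D).map D.subtype with hR
  have hRD : R ≤ D := Subgroup.map_subtype_le _
  have hRp : IsPGroup r R := P.2.map _
  have hyR : y ∈ R := ⟨⟨y, hyD⟩, hP (Subgroup.mem_zpowers _), rfl⟩
  have hmax : ∀ Q : Subgroup G, Q ≤ ⊤ ⊓ D → IsPGroup r Q → Nat.card Q ≤ Nat.card R := by
    intro Q hQ hQp
    rw [top_inf_eq] at hQ
    obtain ⟨m, hm⟩ := hQp.exists_card_eq
    rw [hm, hR, Subgroup.card_map_of_injective (Subgroup.subtype_injective _), P.card_eq_multiplicity]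
    refine Nat.pow_le_pow_right hr.pos ((hr.pow_dvd_iff_le_factorization Nat.card_pos.ne').1 ?_)
    exact hm ▸ Subgroup.card_dvd_of_le hQ
  set Y := Subgroup.normalizer (R : Set G) with hYdef
  have hY : Onto Y D := ((Onto.top (D := D)).normalizer (le_inf le_top hRD) hRp hmax).mono inf_le_right
  have hB : ∀ B : Subgroup G, B ≤ R → B ≠ ⊥ → Y ≤ Subgroup.normalizer (B : Set G) → fixS U B = ⊥ := by
    intro B _ hB1 hBY
    by_contra hne
    refine hdone (h.sq_le_of_invariant hv hY (V := fixS U B)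
      (fun g hg w hw => smul_mem_fixS (hBY hg) hw) hne fun e => hB1 ?_)
    refine (Subgroup.eq_bot_iff_forall B).2 fun b hb => h.faith b fun w => ?_
    exact mem_fixS.1 (show w ∈ fixS U B from e ▸ Subgroup.mem_top w) b hb
  by_cases hc : ∃ x ∈ omegaCenter r R, x ≠ 1 ∧ fx U x ≠ ⊥
  · obtain ⟨x, hx, hx1, hfx⟩ := hc
    exact case_center h hY hYdef hRD hB hx hx1 hfx
  push Not at hc
  haveI : Nontrivial R := ⟨⟨⟨y, hyR⟩, 1, fun e => hy1 (congrArg Subtype.val e)⟩⟩
  obtain ⟨z, hz, hz1⟩ : ∃ z ∈ omegaCenter r R, z ≠ 1 := by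
    haveI := hRp.center_nontrivial
    haveI : Finite (Subgroup.center R) := inferInstance
    have hcp : IsPGroup r (Subgroup.center R) := hRp.to_subgroup _
    obtain ⟨k, hk, hck⟩ := hcp.nontrivial_iff_card.1 inferInstance
    obtain ⟨c, hc'⟩ := exists_prime_orderOf_dvd_card' (G := Subgroup.center R) r
      (hck ▸ dvd_pow_self r hk.ne')
    have hco : orderOf ((c : R) : G) = r := by
      rw [Subgroup.orderOf_coe, Subgroup.orderOf_coe]; exact hc'
    refine ⟨((c : R) : G), ⟨(c : R).2, hco ▸ pow_orderOf_eq_one _, fun g hg =>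
      congrArg Subtype.val (Subgroup.mem_center_iff.1 c.2 ⟨g, hg⟩)⟩, fun e => hr.ne_one ?_⟩
    rw [← hco, e, orderOf_one]
  have hzfix : ∀ a : U, z • a = a → a = 1 := fun a ha =>
    Subgroup.mem_bot.1 (hc z hz hz1 ▸ (show a ∈ fx U z from ha))
  have hZ : omegaCenter r R = Subgroup.zpowers z := by
    refine le_antisymm (fun x hx => ?_) (Subgroup.zpowers_le.2 hz)
    by_contra hxz
    refine hu ?_
    have hle : ⨆ i : Fin r, fx U (x * z ^ (i : ℕ)) ≤ ⊥ := by
      refine iSup_le fun i => (hc _ (mul_mem hx (pow_mem hz _)) fun e => hxz ?_).le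
      rw [eq_inv_of_mul_eq_one_left e]
      exact inv_mem (pow_mem (Subgroup.mem_zpowers z) _)
    exact hle (mem_iSup_fx hz.2.1 hx.2.1 hz1 hzfix (hz.2.2 x hx.1) h.exp hpr u)
  by_cases hE : ∃ e, Modz r R z e
  · obtain ⟨e, he⟩ := hE
    exact case_classes h hpr hY hYdef hRD hRp hB hz.2.1 hz1 hzfix hZ he
  · push Not at hE
    exact case_dihedral h hY hYdef hRD hRp hz.2.1 hz1 hzfix hZ hyR hyr hy1
      (fun e => hu (Subgroup.mem_bot.1 (e ▸ (show u ∈ fx U y from hyu)))) hE

end CfsgLib.DerangedIndexNA
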