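import Cfsg.Agent.DerangedIndexNA.Main
import Cfsg.Agent.Derangement.Subgroup
import Cfsg.Agent.Perm.BurnsidePrime
import Cfsg.Agent.S0042

/-!
# Groups without a non-trivial abelian normal subgroup

They are not Frobenius groups, and in prime degree the subgroup generated by the derangements is
two-transitive, hence everything.
-/

set_option autoImplicit false
set_option linter.unusedSectionVars false
set_option linter.style.haveILetI false

open MulAction

namespace CfsgLib.DerangedIndexNA

open CfsgLib.DerangedIndex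

variable {G : Type*} [Group G] [Finite G] {Ω : Type*} [MulAction G Ω] [Finite Ω] [FaithfulSMul G Ω]

/-- The last derived subgroup. -/
theorem exists_abelian_of_solvable (N : Subgroup G) [N.Normal] [Group.IsSolvable N] (h : N ≠ ⊥) :
    ∃ A : Subgroup G, A.Normal ∧ A ≠ ⊥ ∧ IsMulCommutative A := by
  classical
  let f : ℕ → Subgroup G := fun j => (derivedSeries N j).map N.subtype
  have hf : ∀ j, f (j + 1) = ⁅f j, f j⁆ := fun j => by
    simp only [f, derivedSeries_succ, Subgroup.map_commutator]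
  have hf0 : f 0 = N := by
    simp only [f, derivedSeries_zero, ← MonoidHom.range_eq_map, Subgroup.range_subtype]
  have hn : ∀ j, (f j).Normal := fun j => by
    induction j with
    | zero => rw [hf0]; infer_instance
    | succ j ih => rw [hf]; exact Subgroup.commutator_normal _ _
  have hex : ∃ j, f j = ⊥ := by
    obtain ⟨j, hj⟩ := Group.IsSolvable.solvable (G := N)
    exact ⟨j, by simp only [f, hj, Subgroup.map_bot]⟩
  have h0 : Nat.find hex ≠ 0 := fun e => h (by
    have := Nat.find_spec hex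
    rwa [e, hf0] at this)
  refine ⟨f (Nat.find hex - 1), hn _, Nat.find_min hex (by omega),
    ⟨⟨fun x y => Subtype.ext ?_⟩⟩⟩
  have hb : ⁅f (Nat.find hex - 1), f (Nat.find hex - 1)⁆ = ⊥ := by
    rw [← hf, Nat.sub_add_cancel (Nat.pos_of_ne_zero h0)]
    exact Nat.find_spec hex
  exact (Subgroup.mem_centralizer_iff.1
    ((Subgroup.commutator_eq_bot_iff_le_centralizer.1 hb) x.2) y y.2).symm

/-- Some non-identity element fixes two points. -/
theorem exists_fixing_two [IsPretransitive G Ω] (h2 : 2 ≤ Nat.card Ω)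
    (hna : ∀ N : Subgroup G, N.Normal → IsMulCommutative ↥N → N = ⊥)
    (hk : Subgroup.closure {g : G | ∀ ω : Ω, g • ω ≠ ω} ≠ ⊤) :
    ∃ (y : G) (b c : Ω), y ≠ 1 ∧ y • b = b ∧ y • c = c ∧ b ≠ c := by
  classical
  by_contra hh
  push Not at hh
  haveI hnt : Nontrivial Ω := Finite.one_lt_card_iff_nontrivial.1 h2
  obtain ⟨a⟩ := hnt.to_nonempty
  set H := stabilizer G a with hH
  have hF : Cfsg.IsFrobeniusComplement H := by
    refine ⟨fun hb => hk (top_le_iff.1 fun g _ => ?_), fun ht => ?_, fun g hg => ?_⟩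
    · by_cases hg : g = 1
      · exact hg ▸ one_mem _
      refine CfsgLib.Derangement.mem_closure fun ω hω => hg ?_
      obtain ⟨t, rfl⟩ := exists_smul_eq G a ω
      have h1 : t⁻¹ * g * t ∈ H := by
        rw [hH, mem_stabilizer_iff, mul_smul, mul_smul, hω, inv_smul_smul]
      rw [hb, Subgroup.mem_bot] at h1
      simpa [mul_assoc] using congrArg (fun s => t * s * t⁻¹) h1
    · obtain ⟨b, hb⟩ := exists_ne a
      obtain ⟨g, hg⟩ := exists_smul_eq G a b
      exact hb (hg.symm.trans (mem_stabilizer_iff.1 (ht ▸ Subgroup.mem_top g : g ∈ H)))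
    · refine (Subgroup.eq_bot_iff_forall _).2 fun x hx => ?_
      obtain ⟨hx1, hx2⟩ := Subgroup.mem_inf.1 hx
      by_contra hne
      rw [Subgroup.mem_smul_pointwise_iff_exists] at hx2
      obtain ⟨s, hs, rfl⟩ := hx2
      rw [MulAut.smul_def, MulAut.conj_apply] at hx1 hne
      refine hg (hh _ a (g • a) hne hx1 ?_).symm
      rw [mul_smul, inv_smul_smul, mul_smul, mem_stabilizer_iff.1 hs]
  obtain ⟨N, hN, hNn, hnil⟩ := Cfsg.Agent.S0042.result H hF
  obtain ⟨d, hd⟩ := CfsgLib.Derangement.exists_derangement (G := G) (Ω := Ω) h2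
  have hdN : d ∈ N := by
    have : d ∈ (N : Set G) := by
      rw [hN]
      refine Or.inr fun g hg => hd (g • a) ?_
      rw [Subgroup.mem_smul_pointwise_iff_exists] at hg
      obtain ⟨s, hs, rfl⟩ := hg
      rw [MulAut.smul_def, MulAut.conj_apply, mul_smul, inv_smul_smul, mul_smul,
        mem_stabilizer_iff.1 hs]
    exact this
  have hd1 : d ≠ 1 := fun e => hd a (by rw [e, one_smul])
  haveI : Nontrivial N := ⟨⟨⟨d, hdN⟩, 1, fun e => hd1 (congrArg Subtype.val e)⟩⟩
  haveI := hnil
  haveI := hNn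
  obtain ⟨A, hA, hA1, hA2⟩ := exists_abelian_of_solvable N
    fun e => hd1 (Subgroup.mem_bot.1 (e ▸ hdN))
  exact hA1 (hna A hA hA2)

/-- In prime degree the derangements generate everything. -/
theorem eq_top_of_prime (hna : ∀ N : Subgroup G, N.Normal → IsMulCommutative ↥N → N = ⊥)
    {D : Subgroup G} [D.Normal] (h : Hyp Ω D) (hp : (Nat.card Ω).Prime) : D = ⊤ := by
  classical
  haveI := Fintype.ofFinite Ω
  haveI : Fact (Nat.card Ω).Prime := ⟨hp⟩
  set ρ : D →* Equiv.Perm Ω := (toPermHom G Ω).comp D.subtype with hρ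
  have hinj : Function.Injective ρ := fun x y e => Subtype.ext (toPerm_injective e)
  haveI : IsPretransitive ρ.range Ω := ⟨fun a b => by
    obtain ⟨d, hd, e⟩ := h.trans a b
    exact ⟨⟨ρ ⟨d, hd⟩, ⟨d, hd⟩, rfl⟩, e⟩⟩
  haveI : Nontrivial Ω := Finite.one_lt_card_iff_nontrivial.1 hp.one_lt
  rcases CfsgLib.Perm.PrimeDegree.burnside (p := Nat.card Ω) Nat.card_eq_fintype_card.symm ρ.range
    with hs | h2t
  · exfalso
    haveI := hs
    haveI : Group.IsSolvable D := Group.isSolvable_of_isSolvable_injective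
      (f := ρ.rangeRestrict) fun x y e => hinj (congrArg Subtype.val e)
    have hDne : D ≠ ⊥ := by
      intro e
      obtain ⟨a, b, hab⟩ := exists_pair_ne Ω
      obtain ⟨d, hd, hdab⟩ := h.trans a b
      rw [e, Subgroup.mem_bot] at hd
      exact hab (by rw [← hdab, hd, one_smul])
    obtain ⟨A, hA, hA1, hA2⟩ := exists_abelian_of_solvable D hDne
    exact hA1 (hna A hA hA2)
  · refine top_le_iff.1 fun g _ => ?_
    obtain ⟨a, b, hab⟩ := exists_pair_ne Ω
    obtain ⟨x, hx, hxg⟩ := h.onto_stab a g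
    have hxb : x • b ≠ a := fun e =>
      hab (smul_left_cancel x (e.trans (mem_stabilizer_iff.1 hx).symm)).symm
    obtain ⟨⟨_, ⟨d, hd⟩, rfl⟩, hda, hdb⟩ :=
      is_two_pretransitive_iff.1 h2t hab (Ne.symm hxb)
    have hda' : d • a = a := hda
    have hdb' : d • b = x • b := hdb
    have h1 : d⁻¹ * x ∈ D := by
      refine h.mem_of_two (a := a) (b := b) ?_ ?_ hab
      · rw [mul_smul, mem_stabilizer_iff.1 hx, inv_smul_eq_iff, hda']
      · rw [mul_smul, inv_smul_eq_iff, hdb']
    simpa [mul_assoc] using mul_mem (mul_mem hd h1) hxg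

end CfsgLib.DerangedIndexNA
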