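import Cfsg.Agent.DerangedIndex.AffineBound

/-!
# Counting the points fixed by elements of a small normal subgroup

`Y` meets every coset of `D` and normalises `R₀ ≤ Y ⊓ D`.  If the stabiliser in `R₀` of a point `x`
has order `m`, then the orbit of `x` under `Y` has at least `k |R₀| / m` points, so the elements with
fixed points pay `k |R₀| (m - 1) / m`.  Also: a group in which more than three quarters of the
elements square to one is commutative, and the count of involutions centralised only by themselves.
-/

set_option autoImplicit false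
set_option linter.unusedSectionVars false
set_option linter.style.haveILetI false

open MulAction

namespace CfsgLib.DerangedIndexNA

open CfsgLib.DerangedIndex

/-- More than three quarters of involutions force commutativity. -/
theorem comm_of_involutions {G : Type*} [Group G] [Finite G] (S : Finset G)
    (hS : ∀ g ∈ S, g * g = 1) (hcard : 3 * Nat.card G < 4 * S.card) :
    ∀ a b : G, a * b = b * a := by
  classical
  haveI := Fintype.ofFinite G
  have htop : ∀ H : Subgroup G, Nat.card G < 2 * Nat.card H → H = ⊤ := by
    intro H hlt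
    by_contra hne
    have h2 : 2 ≤ H.index := (Nat.two_le_iff _).2
      ⟨Subgroup.index_ne_zero_of_finite, mt Subgroup.index_eq_one.1 hne⟩
    have h3 := Subgroup.card_mul_index H
    have h4 := Nat.mul_le_mul_left (Nat.card H) h2
    omega
  rw [Nat.card_eq_fintype_card] at hcard
  have hc : ∀ x ∈ S, x ∈ Subgroup.center G := by
    intro x hx
    set T := S.filter fun y => x * y ∈ S with hT
    have hTc : T.card + (Sᶜ).card ≥ S.card := by
      have hsplit := Finset.card_filter_add_card_filter_not (s := S) fun y => x * y ∈ S
      have hinj : (S.filter fun y => ¬ x * y ∈ S).card ≤ (Sᶜ).card :=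
        Finset.card_le_card_of_injOn (fun y => x * y)
          (fun y hy => Finset.mem_compl.2 (Finset.mem_filter.1 hy).2)
          fun a _ b _ e => mul_left_cancel e
      rw [hT]
      omega
    rw [Finset.card_compl] at hTc
    have hle : T.card ≤ Nat.card (Subgroup.centralizer {x}) := by
      rw [Nat.card_eq_fintype_card, ← Finset.card_univ]
      refine le_trans ?_ (Finset.card_map (Function.Embedding.subtype _)).le
      refine Finset.card_le_card fun y hy => ?_
      obtain ⟨hy1, hy2⟩ := Finset.mem_filter.1 hy
      refine Finset.mem_map.2 ⟨⟨y, Subgroup.mem_centralizer_singleton_iff.2 ?_⟩,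
        Finset.mem_univ _, rfl⟩
      have e := hS _ hy2
      calc y * x = x * x * (y * x) * (y * y) := by rw [hS x hx, hS y hy1, one_mul, mul_one]
        _ = x * (x * y * (x * y)) * y := by group
        _ = x * y := by rw [e, mul_one]
    have hSG : S.card ≤ Fintype.card G := Finset.card_le_univ S
    have := htop (Subgroup.centralizer {x}) (by rw [Nat.card_eq_fintype_card (α := G)]; omega)
    refine Subgroup.mem_center_iff.2 fun g => ?_
    exact Subgroup.mem_centralizer_singleton_iff.1 (this ▸ Subgroup.mem_top g)
  have hcen : Subgroup.center G = ⊤ := by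
    refine htop _ ?_
    have : S.card ≤ Nat.card (Subgroup.center G) := by
      rw [Nat.card_eq_fintype_card, ← Finset.card_univ]
      refine le_trans ?_ (Finset.card_map (Function.Embedding.subtype _)).le
      exact Finset.card_le_card fun y hy =>
        Finset.mem_map.2 ⟨⟨y, hc y hy⟩, Finset.mem_univ _, rfl⟩
    rw [Nat.card_eq_fintype_card (α := G)]
    omega
  intro a b
  exact Subgroup.mem_center_iff.1 (hcen ▸ Subgroup.mem_top b) a

variable {G : Type*} [Group G] [Finite G] {U : Type*} [CommGroup U] [MulDistribMulAction G U]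
  [Finite U] {D : Subgroup G} [D.Normal]

/-- The count. -/
theorem index_mul_le {p : ℕ} (h : Aff p G U D) {Y R0 : Subgroup G} (hY : Onto Y D)
    (hR0Y : R0 ≤ Y) (hR0D : R0 ≤ D) (hnorm : Y ≤ Subgroup.normalizer (R0 : Set G))
    (E : Finset G) (hE : ∀ g ∈ R0, g ≠ 1 → ∀ u : U, u ≠ 1 → g • u = u → g ∈ E)
    {q : ℕ} (hq : ∀ g ∈ E, Nat.card (fx U g) ≤ q) {x : U} (hx : x ≠ 1) :
    D.index * Nat.card R0 * (Nat.card (stabilizer R0 x) - 1) ≤
      Nat.card (stabilizer R0 x) * (E.card * (q - 1)) := by
  classical
  haveI := Fintype.ofFinite U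
  haveI := Fintype.ofFinite G
  set m := Nat.card (stabilizer R0 x) with hm
  set O : Finset U := (orbit Y x).toFinset with hO
  have horb : ∀ y ∈ O, y ≠ 1 ∧ Nat.card (stabilizer R0 y) = m := by
    intro y hy
    rw [hO, Set.mem_toFinset] at hy
    obtain ⟨⟨a, ha⟩, rfl⟩ := hy
    change a • x ≠ 1 ∧ Nat.card (stabilizer R0 (a • x)) = m
    refine ⟨fun e => hx (smul_left_cancel a (e.trans (smul_one a).symm)), ?_⟩
    have hN := Subgroup.mem_normalizer_iff.1 (hnorm ha)
    have hc : ∀ z : U, Nat.card (stabilizer R0 z) =
        Nat.card (stabilizer G z ⊓ R0 : Subgroup G) := by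
      intro z
      rw [← Subgroup.subgroupOf_map_subtype (stabilizer G z) R0,
        Subgroup.card_map_of_injective (Subgroup.subtype_injective _)]
      rfl
    have hmap : (stabilizer G (a • x) ⊓ R0 : Subgroup G) =
        (stabilizer G x ⊓ R0).map (MulAut.conj a).toMonoidHom := by
      rw [Subgroup.map_inf _ _ _ (MulAut.conj a).injective,
        stabilizer_smul_eq_stabilizer_map_conj]
      congr 1
      exact (Subgroup.mem_normalizer_iff_map_conj_eq.1 (hnorm ha)).symm
    rw [hm, hc, hc, hmap, Subgroup.card_map_of_injective (MulAut.conj a).injective]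
  have hsum : O.card * (m - 1) ≤ E.card * (q - 1) := by
    refine Finset.card_mul_le_card_mul (fun (u : U) (g : G) => g • u = u) (fun y hy => ?_)
      fun g hg => ?_
    · obtain ⟨hy1, hym⟩ := horb y hy
      rw [← hym, Finset.bipartiteAbove]
      have h1 : Nat.card (stabilizer R0 y) ≤
          (insert (1 : G) (E.filter fun g => g • y = y)).card := by
        rw [Nat.card_eq_fintype_card, ← Finset.card_univ]
        refine Finset.card_le_card_of_injOn (fun g => ((g : R0) : G)) (fun g _ => ?_)
          fun a _ b _ e => Subtype.ext (Subtype.ext e)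
        simp only [Finset.mem_coe, Finset.mem_insert, Finset.mem_filter]
        exact or_iff_not_imp_left.2 fun hg => ⟨hE _ (g : R0).2 hg y hy1 g.2, g.2⟩
      have h2 := Finset.card_insert_le (1 : G) (E.filter fun g => g • y = y)
      omega
    · rw [Finset.bipartiteBelow]
      have h1 : (insert (1 : U) (O.filter fun u => g • u = u)).card ≤ Nat.card (fx U g) := by
        rw [Nat.card_eq_fintype_card, ← Finset.card_univ]
        refine le_trans ?_ (Finset.card_map (Function.Embedding.subtype _)).le
        refine Finset.card_le_card fun u hu => ?_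
        refine Finset.mem_map.2 ⟨⟨u, mem_fx.2 ?_⟩, Finset.mem_univ _, rfl⟩
        rcases Finset.mem_insert.1 hu with rfl | hu
        · exact smul_one g
        · exact (Finset.mem_filter.1 hu).2
      rw [Finset.card_insert_of_notMem fun hh => (horb 1 (Finset.mem_filter.1 hh).1).1 rfl] at h1
      have := hq g hg
      omega
  have hOc : O.card = (stabilizer G x).relIndex Y := by
    rw [hO, ← Set.ncard_eq_toFinset_card', Subgroup.relIndex,
      show (stabilizer G x).subgroupOf Y = stabilizer Y x from rfl, index_stabilizer]
  have hlow : D.index * Nat.card R0 ≤ m * O.card := by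
    have e1 : D.relIndex Y * (stabilizer G x).relIndex (Y ⊓ D) = O.card := by
      rw [hOc, ← Subgroup.inf_relIndex_left Y D,
        ← Subgroup.inf_relIndex_left (Y ⊓ D) (stabilizer G x),
        ← Subgroup.inf_relIndex_left Y (stabilizer G x), mul_comm]
      have hst : ∀ g : G, g • x = x → g ∈ D := fun g hg =>
        by_contra fun hgD => hx (h.fpf g hgD x hg)
      have he : Y ⊓ D ⊓ stabilizer G x = Y ⊓ stabilizer G x :=
        le_antisymm (inf_le_inf_right _ inf_le_left) fun g hg => ⟨⟨hg.1, hst g hg.2⟩, hg.2⟩
      rw [he]
      exact Subgroup.relIndex_mul_relIndex _ _ _ (fun g hg => ⟨hg.1, hst g hg.2⟩) inf_le_left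
    have e2 : (stabilizer G x).relIndex R0 ≤ (stabilizer G x).relIndex (Y ⊓ D) :=
      Subgroup.relIndex_le_of_le_right (le_inf hR0Y hR0D) Subgroup.index_ne_zero_of_finite
    have e3 : Nat.card R0 = m * (stabilizer G x).relIndex R0 := by
      rw [Subgroup.relIndex, show (stabilizer G x).subgroupOf R0 = stabilizer R0 x from rfl, hm,
        Subgroup.card_mul_index]
    rw [hY.relIndex_eq] at e1
    calc D.index * Nat.card R0 = m * (D.index * (stabilizer G x).relIndex R0) := by rw [e3]; ring
      _ ≤ m * (D.index * (stabilizer G x).relIndex (Y ⊓ D)) :=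
          Nat.mul_le_mul_left _ (Nat.mul_le_mul_left _ e2)
      _ = m * O.card := by rw [e1]
  calc D.index * Nat.card R0 * (m - 1) ≤ m * O.card * (m - 1) := Nat.mul_le_mul_right _ hlow
    _ = m * (O.card * (m - 1)) := mul_assoc _ _ _
    _ ≤ m * (E.card * (q - 1)) := Nat.mul_le_mul_left _ hsum

end CfsgLib.DerangedIndexNA
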