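import Cfsg.Agent.DerangedIndex.Main
import Cfsg.Agent.DerangedIndexNA.Bound

/-!
# The index is less than the square root of the degree, for every degree but `3`, `7`, `13`

The proof of the bound for large degrees, with the affine part replaced by the bound valid for all
orders.
-/

set_option autoImplicit false
set_option linter.unusedSectionVars false
set_option linter.style.haveILetI false

open MulAction
open CfsgLib.TISmallDegree

namespace CfsgLib.DerangedIndexNA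

open CfsgLib.DerangedIndex

universe u w

variable {G : Type u} [Group G] [Finite G] {Ω : Type w} [MulAction G Ω] [Finite Ω] {D : Subgroup G}
  [D.Normal]

/-- The bound from the degree bound. -/
theorem sq_le_arith' {k t T n : ℕ} (hn2 : 2 ≤ n) (hn : n ≠ 3 ∧ n ≠ 7 ∧ n ≠ 13) (hk : 1 ≤ k) (htT : t ∣ T) (hkT : k * T ∣ n - 1)
    (h1 : n - 1 ≤ t * (t - 1)) (h2 : n - 1 = t * (t - 1) → t ≤ 4) (ht : 2 ≤ t) :
    (k + 1) ^ 2 ≤ n := by
  obtain ⟨j, hj⟩ := dvd_trans (Nat.mul_dvd_mul_left k htT) hkT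
  have hj1 : 1 ≤ j := by
    rcases Nat.eq_zero_or_pos j with rfl | hj1
    · rw [mul_zero] at hj; omega
    · exact hj1
  have hkj : k * j ≤ t - 1 := by
    refine Nat.le_of_mul_le_mul_left ?_ (show 0 < t by omega)
    calc t * (k * j) = k * t * j := by ring
      _ = n - 1 := hj.symm
      _ ≤ t * (t - 1) := h1
  have hne : ¬ (j = 1 ∧ k = t - 1) := by
    rintro ⟨rfl, rfl⟩
    have e : n - 1 = t * (t - 1) := by rw [hj]; ring
    have ht4 := h2 e
    interval_cases t <;> omega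
  have hkey : k + 2 ≤ t * j := by
    rcases Nat.lt_or_ge j 2 with hj2 | hj2
    · obtain rfl : j = 1 := by omega
      simp only [mul_one] at hkj ⊢
      have : k ≠ t - 1 := fun e => hne ⟨rfl, e⟩
      omega
    · have h3 : k ≤ k * j := Nat.le_mul_of_pos_right k (by omega)
      have h4 : t * 2 ≤ t * j := Nat.mul_le_mul_left t hj2
      omega
  calc (k + 1) ^ 2 = k * (k + 2) + 1 := by ring
    _ ≤ k * (t * j) + 1 := Nat.add_le_add_right (Nat.mul_le_mul_left k hkey) 1
    _ = n := by rw [← mul_assoc, ← hj]; omega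

/-- The main bound. -/
theorem sq_le_nonprime [FaithfulSMul G Ω] (h : Hyp Ω D) (hk : D ≠ ⊤) (hn2 : 2 ≤ Nat.card Ω)
    (hex : Nat.card Ω ≠ 3 ∧ Nat.card Ω ≠ 7 ∧ Nat.card Ω ≠ 13)
    {y : G} (hy : y ≠ 1) {b₀ c₀ : Ω} (hb₀ : y • b₀ = b₀) (hc₀ : y • c₀ = c₀) (hbc : b₀ ≠ c₀) :
    (D.index + 1) ^ 2 ≤ Nat.card Ω := by
  classical
  haveI : Nonempty Ω := ⟨b₀⟩
  by_cases hdone : (D.index + 1) ^ 2 ≤ Nat.card Ω
  · exact hdone
  have hk1 : 1 ≤ D.index := Nat.one_le_iff_ne_zero.2 Subgroup.index_ne_zero_of_finite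
  have hyD : y ∈ D := h.mem_of_two hb₀ hc₀ hbc
  have hkn : D.index ∣ Nat.card Ω - 1 := h.dvd_card_sub_one
  -- the degree is a prime power
  obtain ⟨p, hp, hpn⟩ := Nat.exists_prime_and_dvd (show Nat.card Ω ≠ 1 by omega)
  haveI : Fact p.Prime := ⟨hp⟩
  set v := (Nat.card Ω).factorization p with hv
  have hdeg : Nat.card Ω = p ^ v := by
    by_contra hne
    refine hdone ?_
    obtain ⟨e, he, hepn, hek, -⟩ := h.exists_prime_pow hk hpn b₀
    obtain ⟨q, hq, hqn⟩ : ∃ q, q.Prime ∧ q ∣ Nat.card Ω / p ^ v := by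
      refine Nat.exists_prime_and_dvd fun e1 => hne ?_
      have := Nat.ordProj_mul_ordCompl_eq_self (Nat.card Ω) p
      rw [e1, mul_one] at this
      exact this.symm
    have hqp : q ≠ p := fun e1 => Nat.not_dvd_ordCompl hp (by omega) (e1 ▸ hqn)
    haveI : Fact q.Prime := ⟨hq⟩
    obtain ⟨f, hf, hfqn, hfk, -⟩ :=
      h.exists_prime_pow hk (hqn.trans (Nat.ordCompl_dvd (Nat.card Ω) p)) b₀
    have hcop : (p ^ e).Coprime (q ^ f) :=
      Nat.Coprime.pow _ _ ((Nat.coprime_primes hp hq).2 (Ne.symm hqp))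
    have hmul := Nat.le_of_dvd (by omega) (hcop.mul_dvd_of_dvd_of_dvd hepn hfqn)
    have h1 : D.index + 1 ≤ p ^ e := by
      have h0 : 1 < p ^ e := Nat.one_lt_pow (by omega) hp.one_lt
      have := Nat.le_of_dvd (by omega) hek
      omega
    have h2 : D.index + 1 ≤ q ^ f := by
      have h0 : 1 < q ^ f := Nat.one_lt_pow (by omega) hq.one_lt
      have := Nat.le_of_dvd (by omega) hfk
      omega
    calc (D.index + 1) ^ 2 = (D.index + 1) * (D.index + 1) := sq _
      _ ≤ p ^ e * q ^ f := Nat.mul_le_mul h1 h2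
      _ ≤ Nat.card Ω := hmul
  have hcop : ∀ b : Ω, ¬ p ∣ Nat.card ↥(D ⊓ stabilizer G b : Subgroup G) := by
    intro b
    obtain ⟨e, he, hepn, hek, hlast⟩ := h.exists_prime_pow hk hpn b
    rcases eq_or_ne (p ^ e) (Nat.card Ω) with h1 | h1
    · exact hlast h1 inferInstance
    · refine absurd ?_ hdone
      rw [hdeg] at hepn h1 ⊢
      have hev : e < v := ((Nat.pow_dvd_pow_iff_le_right hp.one_lt).1 hepn).lt_of_ne
        fun e1 => h1 (by rw [e1])
      exact sq_le_of_dvd_two hk1 hp.two_le he hev hek (hdeg ▸ hkn)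
  -- a regular Sylow subgroup
  obtain ⟨P⟩ : Nonempty (Sylow p D) := inferInstance
  set U : Subgroup G := (P : Subgroup D).map D.subtype with hU
  have hUD : U ≤ D := Subgroup.map_subtype_le _
  have hUp : IsPGroup p U := P.2.map _
  have hUc : Nat.card U = p ^ v := by
    rw [hU, Subgroup.card_map_of_injective (Subgroup.subtype_injective _), P.card_eq_multiplicity,
      ← h.card_eq_mul b₀, Nat.factorization_mul Nat.card_pos.ne' Nat.card_pos.ne', Finsupp.add_apply,
      Nat.factorization_eq_zero_of_not_dvd (hcop b₀), zero_add]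
  have hmax : ∀ Q : Subgroup G, Q ≤ ⊤ ⊓ D → IsPGroup p Q → Nat.card Q ≤ Nat.card U := by
    intro Q hQ hQp
    rw [top_inf_eq] at hQ
    obtain ⟨m, hm⟩ := hQp.exists_card_eq
    rw [hm, hU, Subgroup.card_map_of_injective (Subgroup.subtype_injective _), P.card_eq_multiplicity]
    refine Nat.pow_le_pow_right hp.pos ((hp.pow_dvd_iff_le_factorization Nat.card_pos.ne').1 ?_)
    exact hm ▸ Subgroup.card_dvd_of_le hQ
  have hNonto := ((Onto.top (D := D)).normalizer (le_inf le_top hUD) hUp hmax).mono inf_le_right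
  obtain ⟨a, hX⟩ := h.exists_onto hNonto
  set X : Subgroup G := Subgroup.normalizer (U : Set G) ⊓ stabilizer G a with hXdef
  have hXa : ∀ x ∈ X, x • a = a := fun x hx => (Subgroup.mem_inf.1 hx).2
  have hXN : ∀ x ∈ X, ∀ u ∈ U, x * u * x⁻¹ ∈ U := fun x hx u hu =>
    (Subgroup.mem_normalizer_iff.1 (Subgroup.mem_inf.1 hx).1 u).1 hu
  have hreg : ∀ g ∈ U, ∀ b : Ω, g • b = b → g = 1 := by
    intro g hg b hb
    obtain ⟨i, hi⟩ := hUp ⟨g, hg⟩
    obtain ⟨j, -, hj⟩ := (Nat.dvd_prime_pow hp).1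
      (orderOf_dvd_of_pow_eq_one (x := g) (n := p ^ i) (congrArg Subtype.val hi))
    by_contra hne
    refine hcop b ((dvd_pow_self p ?_).trans (hj ▸ Subgroup.orderOf_dvd_natCard _
      (Subgroup.mem_inf.2 ⟨hUD hg, hb⟩)))
    rintro rfl
    exact hne (orderOf_eq_one_iff.1 (by rw [hj, pow_zero]))
  -- invariant subgroups of `U`
  have hsub : ∀ W : Subgroup G, W ≤ U → W ≠ ⊥ → (∀ x ∈ X, ∀ w ∈ W, x * w * x⁻¹ ∈ W) → W = U := by
    intro W hWU hW1 hWX
    by_contra hne
    obtain ⟨e, he, hWc⟩ := (Nat.dvd_prime_pow hp).1 (hUc ▸ Subgroup.card_dvd_of_le hWU)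
    have hev : e < v := he.lt_of_ne fun e1 => hne (Subgroup.eq_of_le_of_card_ge hWU
      (by rw [hWc, hUc, e1]))
    have he1 : 1 ≤ e := by
      by_contra h0
      exact hW1 (Subgroup.card_eq_one.1 (by rw [hWc, show e = 0 by omega, pow_zero]))
    refine hdone ?_
    rw [hdeg]
    refine sq_le_of_dvd_two hk1 hp.two_le he1 hev ?_ (hdeg ▸ hkn)
    have hst : stabilizer W a = ⊥ := (Subgroup.eq_bot_iff_forall _).2 fun q hq =>
      Subtype.ext (hreg q (hWU q.2) a hq)
    have h1 := h.dvd_ncard hX (inf_le_right) (S := orbit W a \ {a}) ?_ (by simp)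
    · rwa [Set.ncard_sdiff_singleton_of_mem (mem_orbit_self a), ← index_stabilizer, hst,
        Subgroup.index_bot, hWc] at h1
    · rintro x hx _ ⟨⟨⟨q, hq⟩, rfl⟩, hne'⟩
      refine ⟨⟨⟨x * q * x⁻¹, hWX x hx q hq⟩, ?_⟩, fun e1 => hne' ?_⟩
      · show (x * q * x⁻¹) • a = x • q • a
        rw [mul_smul, mul_smul, inv_smul_eq_iff.2 (hXa x hx).symm]
      · rw [Set.mem_singleton_iff] at e1 ⊢
        exact smul_left_cancel x (e1.trans (hXa x hx).symm)
  -- `U` is elementary abelian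
  haveI hUnt : Nontrivial U := Finite.one_lt_card_iff_nontrivial.1 (by rw [hUc, ← hdeg]; omega)
  have hZU : (Subgroup.center U).map U.subtype = U := by
    haveI := hUp.center_nontrivial
    refine hsub _ (Subgroup.map_subtype_le _) ?_ fun x hx w hw => ?_
    · rw [Ne, Subgroup.map_eq_bot_iff_of_injective _ (Subgroup.subtype_injective _)]
      exact (Subgroup.nontrivial_iff_ne_bot _).1 inferInstance
    · obtain ⟨⟨c, hc⟩, hcc, rfl⟩ := hw
      refine ⟨⟨x * c * x⁻¹, hXN x hx c hc⟩, Subgroup.mem_center_iff.2 fun d => Subtype.ext ?_, rfl⟩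
      have hd := hXN x⁻¹ (inv_mem hx) d d.2
      have e : x⁻¹ * d * x⁻¹⁻¹ * c = c * (x⁻¹ * d * x⁻¹⁻¹) :=
        congrArg Subtype.val (Subgroup.mem_center_iff.1 hcc ⟨_, hd⟩)
      show (d : G) * (x * c * x⁻¹) = x * c * x⁻¹ * d
      calc (d : G) * (x * c * x⁻¹) = x * (x⁻¹ * d * x⁻¹⁻¹ * c) * x⁻¹ := by group
        _ = x * (c * (x⁻¹ * d * x⁻¹⁻¹)) * x⁻¹ := by rw [e]
        _ = x * c * x⁻¹ * d := by group
  have hcomm : ∀ c ∈ U, ∀ d ∈ U, c * d = d * c := by
    intro c hc d hd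
    obtain ⟨c', hc', rfl⟩ := hZU.ge hc
    exact (congrArg Subtype.val (Subgroup.mem_center_iff.1 hc' ⟨d, hd⟩)).symm
  let Ω₁ : Subgroup G :=
    { carrier := {x | x ∈ U ∧ x ^ p = 1}
      one_mem' := ⟨one_mem U, one_pow p⟩
      mul_mem' := fun {c d} hc hd => ⟨mul_mem hc.1 hd.1, by
        rw [(show Commute c d from hcomm c hc.1 d hd.1).mul_pow, hc.2, hd.2, one_mul]⟩
      inv_mem' := fun {c} hc => ⟨inv_mem hc.1, by rw [inv_pow, hc.2, inv_one]⟩ }
  have hO : Ω₁ = U := by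
    refine hsub _ (fun x hx => hx.1) ?_ fun x hx w hw => ⟨hXN x hx w hw.1, by
      rw [conj_pow, hw.2, mul_one, mul_inv_cancel]⟩
    obtain ⟨c, hc⟩ := exists_prime_orderOf_dvd_card' (G := U) p (by
      rw [hUc]; exact dvd_pow_self p (by
        rintro h0; rw [h0, pow_zero] at hdeg; omega))
    intro e
    have : (c : G) = 1 := by
      rw [← Subgroup.mem_bot, ← e]
      exact ⟨c.2, by rw [← hc, ← Subgroup.orderOf_coe]; exact pow_orderOf_eq_one _⟩
    rw [← Subgroup.orderOf_coe, this, orderOf_one] at hc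
    exact hp.ne_one hc.symm
  have hexp : ∀ c ∈ U, c ^ p = 1 := fun c hc => (hO.ge hc).2
  have hRH : RegHyp Ω D U p v := ⟨hcop, hUD, hUc, hdeg, hcomm⟩
  -- what centralises `U` and fixes `a` is trivial
  have hcentU : ∀ x : G, x • a = a → (∀ c ∈ U, x * c = c * x) → x = 1 := fun x hxa hxc =>
    eq_of_smul_eq_smul (α := Ω) fun z => by
      obtain ⟨c, hc, rfl⟩ := hRH.exists_smul hUD hUp hUc a z
      rw [one_smul]
      exact hRH.fix_smul hxa (hxc c hc)
  -- `X` as a group of automorphisms of `U`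
  letI : CommGroup U := { (inferInstance : Group U) with
    mul_comm := fun c d => Subtype.ext (hcomm c c.2 d d.2) }
  letI : MulDistribMulAction X U :=
    { smul := fun x c => ⟨(x : G) * c * (x : G)⁻¹, hXN x x.2 c c.2⟩
      one_smul := fun c => Subtype.ext (show (1 : G) * c * (1 : G)⁻¹ = c by group)
      mul_smul := fun x x' c => Subtype.ext (show (x : G) * x' * c * ((x : G) * x')⁻¹ =
        (x : G) * ((x' : G) * c * (x' : G)⁻¹) * (x : G)⁻¹ by group)
      smul_mul := fun x c d => Subtype.ext (show (x : G) * ((c : G) * d) * (x : G)⁻¹ =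
        ((x : G) * c * (x : G)⁻¹) * ((x : G) * d * (x : G)⁻¹) by group)
      smul_one := fun x => Subtype.ext (show (x : G) * 1 * (x : G)⁻¹ = 1 by group) }
  set T : Subgroup X := D.subgroupOf X with hT
  have hTindex : T.index = D.index := hX.relIndex_eq
  have hcomm_of_fix : ∀ (x : X) (c : U), x • c = c → (x : G) * c = c * x := fun x c e =>
    mul_inv_eq_iff_eq_mul.1 (congrArg Subtype.val e)
  have hfpf : ∀ x : X, x ∉ T → ∀ c : U, x • c = c → c = 1 := by
    intro x hx c hc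
    have hfix := hRH.fix_smul (hXa x x.2) (hcomm_of_fix x c hc)
    exact Subtype.ext (hreg c c.2 a (h.uniq x (fun hh => hx hh) _ _ hfix (hXa x x.2)))
  have hcop' : ¬ p ∣ Nat.card T := fun hd => hcop a (hd.trans (by
    rw [← Subgroup.card_map_of_injective (f := X.subtype) (Subgroup.subtype_injective _),
      hT, Subgroup.subgroupOf_map_subtype]
    exact Subgroup.card_dvd_of_le (le_inf inf_le_left (inf_le_right.trans inf_le_right))))
  by_cases haff : ∃ t ∈ T, t ≠ 1 ∧ ∃ c : U, c ≠ 1 ∧ t • c = c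
  · have hA : Aff p X U T := ⟨fun c => Subtype.ext (hexp c c.2), fun x hx =>
      Subtype.ext (hcentU x (hXa x x.2) fun c hc => hcomm_of_fix x ⟨c, hc⟩ (hx ⟨c, hc⟩)),
      hcop', hfpf, haff⟩
    have h1 := CfsgLib.DerangedIndexNA.sq_le hA (v' := v) hUc
    rwa [hTindex, hUc, ← hdeg] at h1
  push Not at haff
  -- now `X` acts semiregularly on `U ∖ 1`
  have hsemi : ∀ x : X, x ≠ 1 → ∀ c : U, x • c = c → c = 1 := by
    intro x hx c hc
    by_contra hc1
    exact hc1 (hfpf x (fun hxT => haff x hxT hx c hc1 hc) c hc)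
  -- centralisers
  have hNdec : ∀ H : Subgroup G, U ≤ H → ∀ g ∈ Subgroup.normalizer (U : Set G) ⊓ H,
      ∃ c ∈ U, c⁻¹ * g ∈ X ⊓ H := by
    intro H hUH g hg
    obtain ⟨c, hc, hca⟩ := hRH.exists_smul hUD hUp hUc a (g • a)
    refine ⟨c, hc, Subgroup.mem_inf.2 ⟨Subgroup.mem_inf.2 ⟨mul_mem (inv_mem (Subgroup.le_normalizer hc))
      (Subgroup.mem_inf.1 hg).1, ?_⟩, mul_mem (inv_mem (hUH hc)) (Subgroup.mem_inf.1 hg).2⟩⟩
    rw [mem_stabilizer_iff, mul_smul, ← hca, inv_smul_smul]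
  have hcent : ∀ c ∈ U, c ≠ 1 → D ⊓ Subgroup.centralizer {c} = U := by
    intro c hc hc1
    have hUle : U ≤ D ⊓ Subgroup.centralizer {c} := fun d hd =>
      Subgroup.mem_inf.2 ⟨hUD hd, Subgroup.mem_centralizer_singleton_iff.2 (hcomm d hd c hc)⟩
    refine hRH.eq_of_normalizer_le hUle inf_le_left fun g hg => ?_
    obtain ⟨d, hd, hdg⟩ := hNdec _ hUle g hg
    obtain ⟨hx, hxC⟩ := Subgroup.mem_inf.1 hdg
    have hx1 : (⟨d⁻¹ * g, hx⟩ : X) = 1 := by
      by_contra hne
      refine hc1 (congrArg Subtype.val (hsemi _ hne ⟨c, hc⟩ (Subtype.ext ?_)))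
      show d⁻¹ * g * c * (d⁻¹ * g)⁻¹ = c
      rw [Subgroup.mem_centralizer_singleton_iff.1 (Subgroup.mem_inf.1 hxC).2, mul_inv_cancel_right]
    have := congrArg Subtype.val hx1
    simp only [OneMemClass.coe_one, inv_mul_eq_one] at this
    exact this ▸ hd
  -- the index times the stabiliser divides `n - 1`
  have hXn : D.index * Nat.card T ∣ Nat.card Ω - 1 := by
    have h1 := dvd_card_sub_one_of_fpf (G := X) (D := (⊥ : Subgroup X)) (Y := ⊤)
      (fun x hx c hc => hsemi x (fun e => hx (by rw [e]; exact one_mem _)) c hc)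
      Onto.top (V := (⊤ : Subgroup U)) (fun _ _ _ _ => trivial)
    rw [Subgroup.index_bot, Subgroup.card_top, hUc, ← hdeg] at h1
    rwa [← hTindex, Subgroup.index_mul_card]
  -- the normal closure
  set D0 : Subgroup G := Subgroup.normalClosure (U : Set G) with hD0
  have hUD0 : U ≤ D0 := Subgroup.subset_normalClosure
  have hD0D : D0 ≤ D := Subgroup.normalClosure_le_normal hUD
  obtain ⟨y', hy'D, hy'1, hy'a, b', hb'a, hy'b⟩ := exists_fixing h a hy hyD hb₀ hc₀ hbc
  by_cases hT0 : X ⊓ D0 = ⊥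
  · -- then `U` is normal
    exfalso
    have hD0U : D0 = U := by
      refine hRH.eq_of_normalizer_le hUD0 hD0D fun g hg => ?_
      obtain ⟨d, hd, hdg⟩ := hNdec _ hUD0 g hg
      rw [hT0, Subgroup.mem_bot, inv_mul_eq_one] at hdg
      exact hdg ▸ hd
    have hUn : U.Normal := hD0U ▸ Subgroup.normalClosure_normal
    have hy'X : y' ∈ X := Subgroup.mem_inf.2 ⟨by rw [Subgroup.normalizer_eq_top (H := U)]; trivial, hy'a⟩
    obtain ⟨c, hc, hcb⟩ := hRH.exists_smul hUD hUp hUc a b'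
    have hc1 : c ≠ 1 := fun e => hb'a (by rw [← hcb, e, one_smul])
    have hfix : (⟨y', hy'X⟩ : X) • (⟨c, hc⟩ : U) = ⟨c, hc⟩ := by
      refine Subtype.ext ?_
      show y' * c * y'⁻¹ = c
      have h1 : (c⁻¹ * (y' * c * y'⁻¹)) • a = a := by
        rw [mul_smul, mul_smul, mul_smul, inv_smul_eq_iff.2 hy'a.symm, hcb, hy'b, ← hcb,
          inv_smul_smul]
      exact (inv_mul_eq_one.1 (hreg _ (mul_mem (inv_mem hc) (hXN y' hy'X c hc)) a h1)).symm
    exact hc1 (congrArg Subtype.val (hsemi _ (fun e => hy'1 (congrArg Subtype.val e)) _ hfix))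
  -- the degree bound in `D0`
  haveI : Fintype D0 := Fintype.ofFinite _
  haveI : Fintype Ω := Fintype.ofFinite _
  haveI : IsPretransitive D0 Ω := ⟨fun s t => by
    obtain ⟨c, hc, hcs⟩ := hRH.exists_smul hUD hUp hUc s t
    exact ⟨⟨c, hUD0 hc⟩, hcs⟩⟩
  have hUc' : Nat.card (U.subgroupOf D0) = p ^ v := by
    rw [Nat.card_congr (Subgroup.subgroupOfEquivOfLe hUD0).toEquiv, hUc]
  obtain ⟨P0, hP0⟩ := (IsPGroup.of_card hUc' : IsPGroup p (U.subgroupOf D0)).exists_le_sylow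
  have hP0U : (P0 : Subgroup D0) = U.subgroupOf D0 := by
    refine (Subgroup.eq_of_le_of_card_ge hP0 ?_).symm
    rw [hUc', ← hUc, ← Subgroup.card_map_of_injective (f := D0.subtype)
      (Subgroup.subtype_injective _) (K := (P0 : Subgroup D0))]
    exact hmax _ (le_inf le_top ((Subgroup.map_subtype_le _).trans hD0D)) (P0.2.map _)
  have hmemP : ∀ g : D0, g ∈ (P0 : Subgroup D0) ↔ (g : G) ∈ U := fun g => by rw [hP0U]; rfl
  have hself : SelfCent P0 := by
    intro c hc hc1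
    ext g
    rw [Subgroup.mem_centralizer_singleton_iff, hmemP]
    constructor
    · intro hg
      rw [← hcent c ((hmemP c).1 hc) fun e => hc1 (Subtype.ext e)]
      exact Subgroup.mem_inf.2 ⟨hD0D g.2,
        Subgroup.mem_centralizer_singleton_iff.2 (congrArg Subtype.val hg)⟩
    · intro hg
      exact Subtype.ext (hcomm _ hg _ ((hmemP c).1 hc))
  have hNP : NoProper P0 := by
    intro K hKn hPK
    have hle : D0 ≤ K.map D0.subtype := by
      refine (Subgroup.closure_le _).2 fun g hg => ?_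
      obtain ⟨c, hc, hcg⟩ := Group.mem_conjugatesOfSet_iff.1 hg
      obtain ⟨d, rfl⟩ := isConj_iff.1 hcg
      -- the conjugate is a Sylow subgroup
      set Q : Subgroup G := U.map (MulAut.conj d).toMonoidHom with hQ
      have hQD0 : Q ≤ D0 := by
        rintro _ ⟨e, he, rfl⟩
        exact Subgroup.normalClosure_normal.conj_mem e (hUD0 he) d
      have hQc : Nat.card (Q.subgroupOf D0) = p ^ v := by
        rw [Nat.card_congr (Subgroup.subgroupOfEquivOfLe hQD0).toEquiv, hQ,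
          Subgroup.card_map_of_injective (MulAut.conj d).injective, hUc]
      obtain ⟨P1, hP1⟩ := (IsPGroup.of_card hQc : IsPGroup p (Q.subgroupOf D0)).exists_le_sylow
      obtain ⟨z, rfl⟩ := MulAction.exists_smul_eq D0 P0 P1
      have hm : (⟨d * c * d⁻¹, hQD0 ⟨c, hc, rfl⟩⟩ : D0) ∈ ((z • P0 : Sylow p D0) : Subgroup D0) :=
        hP1 (show d * c * d⁻¹ ∈ Q from ⟨c, hc, rfl⟩)
      refine ⟨⟨d * c * d⁻¹, hQD0 ⟨c, hc, rfl⟩⟩, ?_, rfl⟩
      rw [Sylow.coe_subgroup_smul, Subgroup.mem_smul_pointwise_iff_exists] at hm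
      obtain ⟨s, hs, e⟩ := hm
      exact e ▸ hKn.conj_mem s (hPK hs) z
    refine top_le_iff.1 fun g _ => ?_
    obtain ⟨g', hg', e⟩ := hle g.2
    exact Subtype.ext e ▸ hg'
  have hreg0 : ∀ c ∈ (P0 : Subgroup D0), c ≠ 1 → ∀ ω : Ω, c • ω ≠ ω := fun c hc hc1 ω hω =>
    hc1 (Subtype.ext (hreg _ ((hmemP c).1 hc) ω hω))
  have hcard0 : Nat.card (P0 : Subgroup D0) = Nat.card Ω := by rw [hP0U, hUc', hdeg]
  obtain ⟨c', hc'a, hc'b⟩ : ∃ c', c' ≠ a ∧ c' ∉ orbit (stabilizer D0 a) b' := by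
    by_contra hh
    push Not at hh
    refine hk (top_le_iff.1 fun g _ => ?_)
    obtain ⟨x, hx, hxg⟩ := h.onto_stab a g
    obtain ⟨⟨d, hd⟩, hdb⟩ := hh (x • b') fun e =>
      hb'a (smul_left_cancel x (e.trans (mem_stabilizer_iff.1 hx).symm))
    have hda : (d : G) • a = a := hd
    have h1 : ((d : G)⁻¹ * x) ∈ D := by
      refine h.mem_of_two (a := a) (b := b') ?_ ?_ (Ne.symm hb'a)
      · rw [mul_smul, mem_stabilizer_iff.1 hx, inv_smul_eq_iff, hda]
      · rw [mul_smul, inv_smul_eq_iff]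
        exact hdb.symm
    have := mul_mem (mul_mem (hD0D d.2) h1) hxg
    simpa using this
  -- the order of the stabiliser
  haveI : IsPretransitive (NN P0) Ω := ⟨fun s t => by
    obtain ⟨c, hc, hcs⟩ := hRH.exists_smul hUD hUp hUc s t
    exact ⟨⟨⟨c, hUD0 hc⟩, Subgroup.le_normalizer ((hmemP _).2 hc)⟩, hcs⟩⟩
  set t := ee P0 with htdef
  have hP0ne : ∃ c ∈ (P0 : Subgroup D0), c ≠ 1 := by
    obtain ⟨c, hc⟩ := exists_ne (1 : U)
    exact ⟨⟨c, hUD0 c.2⟩, (hmemP _).2 c.2, fun e => hc (Subtype.ext (show (c : G) = 1 from congrArg (fun d : D0 => (d : G)) e))⟩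
  have hst : Nat.card (stabilizer (NN P0) a) = t := by
    obtain ⟨c, hc, hc1⟩ := hP0ne
    have h1 := Subgroup.card_mul_index (stabilizer (NN P0) a)
    rw [index_stabilizer_of_transitive, card_NN, hself.CC_eq hc hc1, hcard0] at h1
    exact Nat.eq_of_mul_eq_mul_right (by omega) h1
  set f : NN P0 →* G := D0.subtype.comp (NN P0).subtype with hf
  have hfinj : Function.Injective f := fun s t e => Subtype.ext (Subtype.ext e)
  have hmap : (stabilizer (NN P0) a).map f = X ⊓ D0 := by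
    ext g
    constructor
    · rintro ⟨s, hs, rfl⟩
      refine Subgroup.mem_inf.2 ⟨Subgroup.mem_inf.2 ⟨Subgroup.mem_normalizer_iff.2 fun c => ?_, hs⟩, s.1.2⟩
      have key := Subgroup.mem_normalizer_iff.1 s.2
      constructor
      · intro hc
        exact (hmemP _).1 ((key ⟨c, hUD0 hc⟩).1 ((hmemP _).2 hc))
      · intro hc
        have hcD : c ∈ D0 := by
          have := mul_mem (mul_mem (inv_mem s.1.2) (hUD0 hc)) s.1.2
          simpa [f, mul_assoc] using this
        exact (hmemP ⟨c, hcD⟩).1 ((key ⟨c, hcD⟩).2 ((hmemP _).2 hc))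
    · intro hg
      obtain ⟨hgX, hgD⟩ := Subgroup.mem_inf.1 hg
      have hgN : (⟨g, hgD⟩ : D0) ∈ NN P0 := by
        rw [NN, Subgroup.mem_normalizer_iff]
        intro c
        rw [hmemP, hmemP]
        exact Subgroup.mem_normalizer_iff.1 (Subgroup.mem_inf.1 hgX).1 c
      exact ⟨⟨⟨g, hgD⟩, hgN⟩, hXa g hgX, rfl⟩
  rw [← Subgroup.card_map_of_injective hfinj, hmap] at hst
  have ht2 : 2 ≤ t := by
    rw [← hst]
    exact Finite.one_lt_card_iff_nontrivial.2 ((Subgroup.nontrivial_iff_ne_bot _).2 hT0)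
  have htT : t ∣ Nat.card T := by
    rw [← hst, ← Subgroup.card_map_of_injective (f := X.subtype) (Subgroup.subtype_injective _)
      (K := T), hT, Subgroup.subgroupOf_map_subtype]
    exact Subgroup.card_dvd_of_le (le_inf (inf_le_right.trans hD0D) inf_le_left)
  obtain ⟨hd1, hd2⟩ := degree_le hself hNP hreg0 hcard0 hb'a hc'a hc'b ht2
  exact sq_le_arith' hn2 hex hk1 htT hXn hd1 hd2 ht2

end CfsgLib.DerangedIndexNA
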